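import Groth.Agent.LaurentPts.Series
import Mathlib

/-!
Sections over `R((t))` of a finite étale cover split by `t ↦ t^d`.
-/

set_option autoImplicit false
set_option linter.style.haveILetI false
set_option backward.isDefEq.respectTransparency false

universe u

open CategoryTheory CategoryTheory.Limits AlgebraicGeometry HahnSeries

namespace Groth.Agent.LaurentPts

theorem preconnected_of_idem {A : Type u} [CommRing A] (h : ∀ e : A, IsIdempotentElem e → e = 0 ∨ e = 1) :
    PreconnectedSpace (PrimeSpectrum A) := by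
  refine preconnectedSpace_iff_clopen.2 fun s hs => ?_
  obtain ⟨e, he, rfl⟩ := PrimeSpectrum.exists_idempotent_basicOpen_eq_of_isClopen hs
  rcases h e he with rfl | rfl
  · exact Or.inl (by rw [PrimeSpectrum.basicOpen_zero]; rfl)
  · exact Or.inr (by rw [PrimeSpectrum.basicOpen_one]; rfl)

/-- A section of a trivial cover over a connected scheme is one of the inclusions. -/
theorem section_sigma {T S : Scheme.{u}} {n : ℕ} [PreconnectedSpace T] [Nonempty T] (a : T ⟶ S)
    (m : T ⟶ ∐ fun _ : Fin n => S) (hm : m ≫ Sigma.desc (fun _ : Fin n => 𝟙 S) = a) :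
    ∃ i, m = a ≫ Sigma.ι (fun _ : Fin n => S) i := by
  let ι := Sigma.ι (fun _ : Fin n => S)
  obtain ⟨x₀⟩ := ‹Nonempty T›
  have hcov : ∀ x : T, ∃ j, m x ∈ (ι j).opensRange := fun x => by
    obtain ⟨j, y, hy⟩ := (sigmaOpenCover fun _ : Fin n => S).exists_eq (m x)
    exact ⟨j, y, hy⟩
  obtain ⟨i, hi⟩ := hcov x₀
  refine ⟨i, ?_⟩
  have hcl : IsClopen ((m ⁻¹ᵁ (ι i).opensRange : T.Opens) : Set T) := by
    refine ⟨isOpen_compl_iff.1 ?_, (m ⁻¹ᵁ (ι i).opensRange).isOpen⟩
    rw [show ((m ⁻¹ᵁ (ι i).opensRange : T.Opens) : Set T)ᶜ =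
      ⋃ j : {j // j ≠ i}, ((m ⁻¹ᵁ (ι j.1).opensRange : T.Opens) : Set T) from ?_]
    · exact isOpen_iUnion fun j => (m ⁻¹ᵁ (ι j.1).opensRange).isOpen
    ext x
    simp only [Set.mem_compl_iff, Set.mem_iUnion, SetLike.mem_coe, Scheme.Hom.mem_preimage]
    constructor
    · intro h
      obtain ⟨j, hj⟩ := hcov x
      exact ⟨⟨j, fun e => h (e ▸ hj)⟩, hj⟩
    · rintro ⟨j, hj⟩ h
      obtain ⟨y, hy⟩ := hj
      obtain ⟨z, hz⟩ := h
      exact j.2 (congrArg Sigma.fst ((sigmaι_eq_iff (fun _ : Fin n => S) _ _ _ _).1 (hy.trans hz.symm)))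
  have huniv := hcl.eq_univ ⟨x₀, hi⟩
  have hr : Set.range m ⊆ Set.range (ι i) := by
    rintro _ ⟨x, rfl⟩
    exact (huniv ▸ Set.mem_univ x : x ∈ ((m ⁻¹ᵁ (ι i).opensRange : T.Opens) : Set T))
  have hl := IsOpenImmersion.lift_fac (ι i) m hr
  have : IsOpenImmersion.lift (ι i) m hr = a := by
    rw [← hm]
    exact ((congrArg (· ≫ Sigma.desc fun _ : Fin n => 𝟙 S) hl).symm.trans
      (by simp only [Category.assoc, ι, Sigma.ι_desc, Category.comp_id])).symm
  rw [← hl, this]

/-- Morphisms out of a spectrum into an affine scheme are cancelled by injective ring maps. -/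
theorem cancel_injective {A B : CommRingCat.{u}} (g : A ⟶ B) (hg : Function.Injective g) {X : Scheme.{u}}
    [IsAffine X] (s₁ s₂ : Spec A ⟶ X) (h : Spec.map g ≫ s₁ = Spec.map g ≫ s₂) : s₁ = s₂ := by
  obtain ⟨f₁, hf₁⟩ := Spec.map_surjective (s₁ ≫ X.isoSpec.hom)
  obtain ⟨f₂, hf₂⟩ := Spec.map_surjective (s₂ ≫ X.isoSpec.hom)
  have e : f₁ ≫ g = f₂ ≫ g := Spec.map_injective (by
    rw [Spec.map_comp, Spec.map_comp, hf₁, hf₂, reassoc_of% h])
  rw [← cancel_mono X.isoSpec.hom, ← hf₁, ← hf₂]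
  congr 1
  ext x
  exact hg (ConcreteCategory.congr_hom e x)

variable {R : Type u} [CommRing R]

/-- A primitive root of unity in a strictly henselian ring. -/
theorem exists_root [HenselianLocalRing R] [IsSepClosed (IsLocalRing.ResidueField R)] (d : ℕ) (hd : 0 < d)
    (hdu : IsUnit (d : R)) : ∃ ζ : Rˣ, ((ζ : R) ^ d = 1) ∧
      ∀ n : ℤ, ¬(d : ℤ) ∣ n → IsUnit (((ζ ^ n : Rˣ) : R) - 1) := by
  set k := IsLocalRing.ResidueField R
  have hdk : (d : k) ≠ 0 := by
    rw [← map_natCast (IsLocalRing.residue R)]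
    exact (hdu.map _).ne_zero
  haveI : NeZero (d : k) := ⟨hdk⟩
  obtain ⟨z, hz⟩ := HasEnoughRootsOfUnity.exists_primitiveRoot k d
  obtain ⟨r, rfl⟩ := IsLocalRing.residue_surjective z
  obtain ⟨ζ, hroot, hres⟩ := HenselianLocalRing.is_henselian (Polynomial.X ^ d - 1)
    (Polynomial.monic_X_pow_sub_C (1 : R) hd.ne' |> fun h => by simpa using h) r (by
      rw [← IsLocalRing.residue_eq_zero_iff]
      simp [hz.pow_eq_one]) (by
      have : IsLocalRing.residue R r ≠ 0 := hz.ne_zero hd.ne'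
      have hr : IsUnit r := by
        by_contra hh
        exact this ((IsLocalRing.residue_eq_zero_iff _).2 hh)
      simpa [Polynomial.derivative_X_pow] using hdu.mul (hr.pow (d - 1)))
  have hζd : ζ ^ d = 1 := by simpa [sub_eq_zero] using hroot
  refine ⟨Units.ofPowEqOne ζ d hζd hd.ne', hζd, fun n hn => ?_⟩
  by_contra hh
  have h0 := (IsLocalRing.residue_eq_zero_iff _).2 hh
  rw [map_sub, map_one, sub_eq_zero] at h0
  refine hn ((hz.zpow_eq_one_iff_dvd n).1 ?_)
  rw [← (IsLocalRing.residue_eq_zero_iff _).2 hres |> fun h => sub_eq_zero.1 ((map_sub _ _ _).symm.trans h)]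
  have : ((Units.map (IsLocalRing.residue R : R →* k) (Units.ofPowEqOne ζ d hζd hd.ne') ^ n : kˣ) : k) = 1 := by
    rw [← map_zpow]; exact h0
  rwa [Units.val_zpow_eq_zpow_val] at this

variable (R) in
/-- `t ↦ t^d` -/
noncomputable abbrev Ed (d : ℕ) (hinj : Function.Injective (AddMonoidHom.mulLeft (d : ℤ)))
    (hmono : ∀ g g' : ℤ, AddMonoidHom.mulLeft (d : ℤ) g ≤ AddMonoidHom.mulLeft (d : ℤ) g' ↔ g ≤ g') :
    CommRingCat.of (LaurentSeries R) ⟶ CommRingCat.of (LaurentSeries R) :=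
  CommRingCat.ofHom (HahnSeries.embDomainRingHom (R := R) (AddMonoidHom.mulLeft (d : ℤ)) hinj hmono)

theorem Ed_coeff {d : ℕ} {hinj hmono} (x : LaurentSeries R) (n : ℤ) :
    (Ed R d hinj hmono x).coeff ((d : ℤ) * n) = x.coeff n := embDomain_coeff

theorem Ed_coeff_not_dvd {d : ℕ} {hinj hmono} (x : LaurentSeries R) (n : ℤ) (hn : ¬(d : ℤ) ∣ n) :
    (Ed R d hinj hmono x).coeff n = 0 :=
  embDomain_of_notMem_range fun ⟨m, hm⟩ => hn ⟨m, hm.symm⟩

theorem Ed_injective {d : ℕ} {hinj hmono} : Function.Injective (Ed R d hinj hmono) := embDomain_injective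

theorem mem_range_Ed {d : ℕ} (hd : 0 < d) {hinj hmono} (x : LaurentSeries R)
    (h : ∀ n : ℤ, ¬(d : ℤ) ∣ n → x.coeff n = 0) : ∃ y, Ed R d hinj hmono y = x := by
  have hd' : (0 : ℤ) < d := by exact_mod_cast hd
  refine ⟨HahnSeries.ofSuppBddBelow (fun m => x.coeff ((d : ℤ) * m)) ⟨min x.order 0, fun m hm => ?_⟩, ?_⟩
  · have h1 := order_le_of_coeff_ne_zero (x := x) hm
    rcases le_or_gt 0 m with h2 | h2
    · exact min_le_of_right_le h2
    · exact min_le_of_left_le (h1.trans (by nlinarith))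
  · ext n
    by_cases hn : (d : ℤ) ∣ n
    · obtain ⟨m, rfl⟩ := hn
      rw [Ed_coeff]
      rfl
    · rw [Ed_coeff_not_dvd _ _ hn, h n hn]

variable [HenselianLocalRing R] [IsSepClosed (IsLocalRing.ResidueField R)]

theorem sections (d : ℕ) (hd : 0 < d) (hdu : IsUnit (d : R))
    (hinj : Function.Injective (AddMonoidHom.mulLeft (d : ℤ)))
    (hmono : ∀ g g' : ℤ, AddMonoidHom.mulLeft (d : ℤ) g ≤ AddMonoidHom.mulLeft (d : ℤ) g' ↔ g ≤ g')
    (ρ : LaurentSeries R →+* LaurentSeries (IsLocalRing.ResidueField R))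
    (hρ : ρ.comp (ofPowerSeries ℤ R) =
      (ofPowerSeries ℤ (IsLocalRing.ResidueField R)).comp (PowerSeries.map (IsLocalRing.residue R)))
    (X : Scheme.{u}) (p : X ⟶ Spec (CommRingCat.of (LaurentSeries R))) [IsFinite p]
    (n : ℕ) (e : pullback p (Spec.map (Ed R d hinj hmono)) ≅ ∐ fun _ : Fin n => Spec (CommRingCat.of (LaurentSeries R)))
    (he : e.hom ≫ Sigma.desc (fun _ : Fin n => 𝟙 (Spec (CommRingCat.of (LaurentSeries R)))) =
      pullback.snd p (Spec.map (Ed R d hinj hmono))) :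
    (∀ s₁ s₂ : Spec (CommRingCat.of (LaurentSeries R)) ⟶ X,
        s₁ ≫ p = 𝟙 _ → s₂ ≫ p = 𝟙 _ →
        Spec.map (CommRingCat.ofHom ρ) ≫ s₁ = Spec.map (CommRingCat.ofHom ρ) ≫ s₂ → s₁ = s₂) ∧
    (∀ s' : Spec (CommRingCat.of (LaurentSeries (IsLocalRing.ResidueField R))) ⟶ X,
        s' ≫ p = Spec.map (CommRingCat.ofHom ρ) →
        ∃ s : Spec (CommRingCat.of (LaurentSeries R)) ⟶ X, s ≫ p = 𝟙 _ ∧ Spec.map (CommRingCat.ofHom ρ) ≫ s = s') := by
  let k := IsLocalRing.ResidueField R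
  let ρ' : CommRingCat.of (LaurentSeries R) ⟶ CommRingCat.of (LaurentSeries k) := CommRingCat.ofHom ρ
  haveI : IsAffine X := isAffine_of_isAffineHom p
  haveI := preconnected_of_idem (A := LaurentSeries R) fun e he => idem_eq he
  haveI : PreconnectedSpace (Spec (CommRingCat.of (LaurentSeries R))) :=
    inferInstanceAs (PreconnectedSpace (PrimeSpectrum (LaurentSeries R)))
  haveI : Nonempty (Spec (CommRingCat.of (LaurentSeries R))) :=
    inferInstanceAs (Nonempty (PrimeSpectrum (LaurentSeries R)))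
  haveI : PreconnectedSpace (Spec (CommRingCat.of (LaurentSeries k))) :=
    inferInstanceAs (PreconnectedSpace (PrimeSpectrum (LaurentSeries k)))
  haveI : Nonempty (Spec (CommRingCat.of (LaurentSeries k))) :=
    inferInstanceAs (Nonempty (PrimeSpectrum (LaurentSeries k)))
  have hρc : ∀ x m, (ρ x).coeff m = IsLocalRing.residue R (x.coeff m) := fun x m => by
    have := coeff_hom ρ (IsLocalRing.residue R) 1 (by rw [hρ, Units.val_one, PowerSeries.rescale_one]; rfl) x m
    rwa [one_zpow, Units.val_one, one_mul] at this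
  let E' := Ed k d hinj hmono
  have hcomm : Ed R d hinj hmono ≫ ρ' = ρ' ≫ E' := by
    ext x m
    show (ρ (Ed R d hinj hmono x)).coeff m = (E' (ρ x)).coeff m
    rw [hρc]
    by_cases hm : (d : ℤ) ∣ m
    · obtain ⟨l, rfl⟩ := hm
      rw [Ed_coeff, Ed_coeff, hρc]
    · rw [Ed_coeff_not_dvd _ _ hm, Ed_coeff_not_dvd _ _ hm, map_zero]
  -- the points over `t ↦ t^d`
  let q : Fin n → (Spec (CommRingCat.of (LaurentSeries R)) ⟶ X) := fun i =>
    Sigma.ι (fun _ : Fin n => Spec (CommRingCat.of (LaurentSeries R))) i ≫ e.inv ≫ pullback.fst _ _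
  have hsnd : ∀ i, Sigma.ι (fun _ : Fin n => Spec (CommRingCat.of (LaurentSeries R))) i ≫ e.inv ≫
      pullback.snd p (Spec.map (Ed R d hinj hmono)) = 𝟙 _ := fun i => by
    rw [← he, e.inv_hom_id_assoc, Sigma.ι_desc]
  have hqp : ∀ i, q i ≫ p = Spec.map (Ed R d hinj hmono) := fun i => by
    simp only [q, Category.assoc, pullback.condition]
    rw [reassoc_of% (hsnd i)]
  have hpts : ∀ {T : Scheme.{u}} [PreconnectedSpace T] [Nonempty T] (a : T ⟶ Spec (CommRingCat.of (LaurentSeries R)))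
      (x : T ⟶ X), x ≫ p = a ≫ Spec.map (Ed R d hinj hmono) → ∃ i, x = a ≫ q i := fun {T} _ _ a x hx => by
    obtain ⟨i, hi⟩ := section_sigma a (pullback.lift x a hx ≫ e.hom) (by
      rw [Category.assoc, he, pullback.lift_snd])
    refine ⟨i, ?_⟩
    have := congrArg (· ≫ e.inv ≫ pullback.fst _ _) hi
    simpa [q] using this
  have hinjq : ∀ i j, Spec.map ρ' ≫ q i = Spec.map ρ' ≫ q j → i = j := fun i j h => by
    have h1 : Spec.map ρ' ≫ Sigma.ι (fun _ : Fin n => Spec (CommRingCat.of (LaurentSeries R))) i ≫ e.inv =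
        Spec.map ρ' ≫ Sigma.ι (fun _ : Fin n => Spec (CommRingCat.of (LaurentSeries R))) j ≫ e.inv := by
      apply pullback.hom_ext
      · simpa [q] using h
      · simp only [Category.assoc, hsnd]
    have h2 := congrArg (· ≫ e.hom) h1
    simp only [Category.assoc, Iso.inv_hom_id, Category.comp_id] at h2
    obtain ⟨x⟩ := (inferInstance : Nonempty (Spec (CommRingCat.of (LaurentSeries k))))
    by_contra hij
    exact (isEmpty_of_commSq_sigmaι_of_ne ⟨h2⟩ hij).false x
  refine ⟨fun s₁ s₂ h₁ h₂ h => ?_, fun s' hs' => ?_⟩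
  · obtain ⟨i, hi⟩ := hpts (𝟙 _) (Spec.map (Ed R d hinj hmono) ≫ s₁) (by simp [h₁])
    obtain ⟨j, hj⟩ := hpts (𝟙 _) (Spec.map (Ed R d hinj hmono) ≫ s₂) (by simp [h₂])
    rw [Category.id_comp] at hi hj
    have hij : i = j := hinjq i j (by
      rw [← hi, ← hj, ← Spec.map_comp_assoc, ← Spec.map_comp_assoc, hcomm, Spec.map_comp, Category.assoc,
        Category.assoc, h])
    exact cancel_injective _ Ed_injective _ _ (by rw [hi, hj, hij])
  · obtain ⟨ζ, hζd, hζn⟩ := exists_root d hd hdu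
    obtain ⟨σ₀, hσ₀⟩ := exists_hom (RingHom.id R) ζ
    obtain ⟨σ₁, hσ₁⟩ := exists_hom (RingHom.id k) (Units.map (IsLocalRing.residue R : R →* k) ζ)
    let σ : CommRingCat.of (LaurentSeries R) ⟶ CommRingCat.of (LaurentSeries R) := CommRingCat.ofHom σ₀
    let σ' : CommRingCat.of (LaurentSeries k) ⟶ CommRingCat.of (LaurentSeries k) := CommRingCat.ofHom σ₁
    have hζl : ∀ l : ℤ, ((ζ ^ ((d : ℤ) * l) : Rˣ) : R) = 1 := fun l => by
      rw [zpow_mul, zpow_natCast, show ζ ^ d = 1 from Units.ext hζd, one_zpow, Units.val_one]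
    have hσc : ∀ x m, (σ x).coeff m = ((ζ ^ m : Rˣ) : R) * x.coeff m := coeff_hom σ₀ _ ζ hσ₀
    have hσc' : ∀ x m, (σ' x).coeff m = IsLocalRing.residue R ((ζ ^ m : Rˣ) : R) * x.coeff m := fun x m => by
      have := coeff_hom σ₁ _ _ hσ₁ x m
      rw [← map_zpow] at this
      exact this
    have hσE : Ed R d hinj hmono ≫ σ = Ed R d hinj hmono := by
      ext x m
      show (σ (Ed R d hinj hmono x)).coeff m = (Ed R d hinj hmono x).coeff m
      rw [hσc]
      by_cases hm : (d : ℤ) ∣ m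
      · obtain ⟨l, rfl⟩ := hm; rw [hζl, one_mul]
      · rw [Ed_coeff_not_dvd _ _ hm, mul_zero]
    have hσE' : E' ≫ σ' = E' := by
      ext x m
      show (σ' (E' x)).coeff m = (E' x).coeff m
      rw [hσc']
      by_cases hm : (d : ℤ) ∣ m
      · obtain ⟨l, rfl⟩ := hm; rw [hζl, map_one, one_mul]
      · rw [Ed_coeff_not_dvd _ _ hm, mul_zero]
    have hρσ : σ ≫ ρ' = ρ' ≫ σ' := by
      ext x m
      show (ρ (σ x)).coeff m = (σ' (ρ x)).coeff m
      rw [hρc, hσc, hσc', hρc, map_mul]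
    obtain ⟨i, hi⟩ := hpts (Spec.map ρ') (Spec.map E' ≫ s') (by
      rw [Category.assoc, hs', ← Spec.map_comp, ← Spec.map_comp, hcomm])
    obtain ⟨j, hj⟩ := hpts (𝟙 _) (Spec.map σ ≫ q i) (by
      rw [Category.assoc, hqp, ← Spec.map_comp, hσE, Category.id_comp])
    rw [Category.id_comp] at hj
    have hji : j = i := hinjq j i (by
      rw [← hj, ← Spec.map_comp_assoc, hρσ, Spec.map_comp_assoc, ← hi, ← Spec.map_comp_assoc, hσE'])
    subst hji
    obtain ⟨g, hg⟩ := Spec.map_surjective (q j ≫ X.isoSpec.hom)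
    have hgσ : g ≫ σ = g := Spec.map_injective (by rw [Spec.map_comp, hg, reassoc_of% hj])
    have hmem : ∀ x, ∃ y, Ed R d hinj hmono y = g x := fun x => mem_range_Ed hd _ fun m hm => by
      have h1 := congrArg (fun z : LaurentSeries R => z.coeff m) (ConcreteCategory.congr_hom hgσ x)
      simp only [ConcreteCategory.comp_apply, hσc] at h1
      exact (hζn m hm).mul_right_eq_zero.1 (by rw [sub_mul, h1, one_mul, sub_self])
    choose y hy using hmem
    let E := Ed R d hinj hmono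
    let g₀ : Γ(X, ⊤) ⟶ CommRingCat.of (LaurentSeries R) := CommRingCat.ofHom
      { toFun := y
        map_zero' := Ed_injective (by rw [hy, map_zero]; exact (map_zero E.hom).symm)
        map_one' := Ed_injective (by rw [hy, map_one]; exact (map_one E.hom).symm)
        map_add' := fun a b => Ed_injective (by rw [hy, map_add]; exact ((map_add E.hom _ _).trans (by rw [hy, hy])).symm)
        map_mul' := fun a b => Ed_injective (by rw [hy, map_mul]; exact ((map_mul E.hom _ _).trans (by rw [hy, hy])).symm) }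
    have hg₀ : Spec.map E ≫ Spec.map g₀ ≫ X.isoSpec.inv = q j := by
      rw [← Spec.map_comp_assoc, show g₀ ≫ E = g from CommRingCat.hom_ext (RingHom.ext hy), hg, Category.assoc,
        Iso.hom_inv_id, Category.comp_id]
    refine ⟨Spec.map g₀ ≫ X.isoSpec.inv, ?_, ?_⟩
    · exact cancel_injective E Ed_injective _ _ (by rw [Category.assoc, reassoc_of% hg₀, hqp, Category.comp_id])
    · refine cancel_injective E' Ed_injective _ _ ?_
      rw [← Spec.map_comp_assoc, ← hcomm, Spec.map_comp_assoc, hg₀, hi]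

end Groth.Agent.LaurentPts
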