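import Mathlib

/-!
Laurent series: coefficientwise maps, idempotents, invariants of `t ↦ ζ t`.
-/

set_option autoImplicit false

universe u

open HahnSeries

namespace Groth.Agent.LaurentPts

variable {R R' : Type u} [CommRing R] [CommRing R']

/-- The ring map twisting the `n`-th coefficient by `cⁿ`, pinned on power series. -/
theorem coeff_hom (φ : LaurentSeries R →+* LaurentSeries R') (π : R →+* R') (c : R'ˣ)
    (h : φ.comp (ofPowerSeries ℤ R) = (ofPowerSeries ℤ R').comp
      ((PowerSeries.rescale (c : R')).comp (PowerSeries.map π))) (x : LaurentSeries R) (n : ℤ) :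
    (φ x).coeff n = ((c ^ n : R'ˣ) : R') * π (x.coeff n) := by
  have hp : ∀ f : PowerSeries R, φ (ofPowerSeries ℤ R f) =
      ofPowerSeries ℤ R' (PowerSeries.rescale (c : R') (PowerSeries.map π f)) := fun f => RingHom.congr_fun h f
  have hs : ∀ k : ℕ, φ (single (k : ℤ) 1) = single (k : ℤ) ((c : R') ^ k) := fun k => by
    rw [← ofPowerSeries_X_pow, hp, map_pow, PowerSeries.map_X, map_pow, PowerSeries.rescale_X, mul_pow,
      map_mul, ← map_pow PowerSeries.C, ofPowerSeries_C, ofPowerSeries_X_pow, C_mul_eq_smul]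
    ext a
    rw [coeff_smul, coeff_single, coeff_single, smul_eq_mul]
    split_ifs <;> simp
  obtain ⟨N, f, hf⟩ : ∃ (N : ℕ) (f : PowerSeries R), single (N : ℤ) 1 * x = ofPowerSeries ℤ R f := by
    obtain ⟨⟨f, _, N, rfl⟩, hf⟩ := IsLocalization.surj (Submonoid.powers (PowerSeries.X : PowerSeries R)) x
    refine ⟨N, f, ?_⟩
    simp only [LaurentSeries.coe_algebraMap, ofPowerSeries_X_pow] at hf
    rw [mul_comm, hf]
  have h1 := congrArg φ hf
  rw [map_mul, hs, hp] at h1
  have h2 := congrArg (fun s : LaurentSeries R' => s.coeff (n + N)) h1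
  have h3 := congrArg (fun s : LaurentSeries R => s.coeff (n + N)) hf
  simp only [coeff_single_mul_add, one_mul] at h2 h3
  rcases lt_or_ge (n + N) 0 with hneg | hpos
  · rw [PowerSeries.coeff_coe, if_pos hneg] at h2 h3
    rw [h3, map_zero, mul_zero]
    exact (c.isUnit.pow N).mul_right_eq_zero.1 h2
  · obtain ⟨m, hm⟩ := Int.eq_ofNat_of_zero_le hpos
    rw [hm, LaurentSeries.coeff_coe_powerSeries] at h2 h3
    rw [PowerSeries.coeff_rescale, PowerSeries.coeff_map, ← h3] at h2
    rw [← (c.isUnit.pow N).mul_right_inj, h2, ← mul_assoc, ← Units.val_pow_eq_pow_val, ← Units.val_pow_eq_pow_val,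
      ← Units.val_mul, ← zpow_natCast c N, ← zpow_add, add_comm (N : ℤ), hm, zpow_natCast]

theorem exists_hom (π : R →+* R') (c : R'ˣ) : ∃ φ : LaurentSeries R →+* LaurentSeries R',
    φ.comp (ofPowerSeries ℤ R) = (ofPowerSeries ℤ R').comp
      ((PowerSeries.rescale (c : R')).comp (PowerSeries.map π)) := by
  have hu : ∀ y : Submonoid.powers (PowerSeries.X : PowerSeries R), IsUnit
      (((ofPowerSeries ℤ R').comp ((PowerSeries.rescale (c : R')).comp (PowerSeries.map π))) y) := by
    rintro ⟨_, k, rfl⟩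
    simp only [RingHom.comp_apply, map_pow, PowerSeries.map_X, PowerSeries.rescale_X, map_mul, ofPowerSeries_C,
      ofPowerSeries_X]
    refine ((c.isUnit.map (HahnSeries.C : R' →+* LaurentSeries R')).mul ?_).pow k
    exact ⟨⟨single 1 1, single (-1) 1, by simp, by simp⟩, rfl⟩
  exact ⟨IsLocalization.lift (S := LaurentSeries R) hu, RingHom.ext fun f => IsLocalization.lift_eq (S := LaurentSeries R) hu f⟩

/-- Laurent series over a local ring have no nontrivial idempotents. -/
theorem idem_eq [IsLocalRing R] {e : LaurentSeries R} (he : IsIdempotentElem e) : e = 0 ∨ e = 1 := by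
  obtain ⟨ρ, hρ⟩ := exists_hom (IsLocalRing.residue R) 1
  suffices key : ∀ e : LaurentSeries R, IsIdempotentElem e → ρ e = 0 → e = 0 by
    rcases IsIdempotentElem.iff_eq_zero_or_one.1 (he.map ρ) with h | h
    · exact Or.inl (key e he h)
    · exact Or.inr (sub_eq_zero.1 (key _ he.one_sub (by rw [map_sub, map_one, h, sub_self]))).symm
  intro e he h0
  have hm : ∀ n, IsLocalRing.residue R (e.coeff n) = 0 := fun n => by
    have := coeff_hom ρ _ 1 hρ e n
    rw [h0, coeff_zero, one_zpow, Units.val_one, one_mul] at this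
    exact this.symm
  have hnil : ∀ n : ℤ, n < 0 → IsNilpotent (e.coeff n) := fun n hn => by
    rw [← mem_nilradical, nilradical_eq_sInf]
    refine Ideal.mem_sInf.2 fun {P} hP => ?_
    haveI : P.IsPrime := hP
    obtain ⟨ψ, hψ⟩ := exists_hom (Ideal.Quotient.mk P) 1
    have := coeff_hom ψ _ 1 hψ e n
    rw [one_zpow, Units.val_one, one_mul] at this
    rw [← Ideal.Quotient.eq_zero_iff_mem, ← this]
    rcases IsIdempotentElem.iff_eq_zero_or_one.1 (he.map ψ) with h | h
    · rw [h, coeff_zero]
    · rw [h, coeff_one, if_neg hn.ne]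
  let Q : PowerSeries R := PowerSeries.mk fun k => e.coeff (k : ℤ)
  have hP : IsNilpotent (e - ofPowerSeries ℤ R Q) := by
    have hfin : (e - ofPowerSeries ℤ R Q).support.Finite := by
      refine Set.Finite.subset (Set.finite_Ico (min e.order 0) 0) fun n hn => ?_
      rw [mem_support, coeff_sub] at hn
      have hn0 : n < 0 := by
        by_contra hh
        obtain ⟨m, rfl⟩ := Int.eq_ofNat_of_zero_le (not_lt.1 hh)
        rw [LaurentSeries.coeff_coe_powerSeries, PowerSeries.coeff_mk, sub_self] at hn
        exact hn rfl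
      refine ⟨?_, hn0⟩
      rw [PowerSeries.coeff_coe, if_pos hn0, sub_zero] at hn
      exact min_le_of_left_le (order_le_of_coeff_ne_zero hn)
    have hsum : e - ofPowerSeries ℤ R Q = ∑ n ∈ hfin.toFinset, single n ((e - ofPowerSeries ℤ R Q).coeff n) := by
      ext a
      rw [coeff_sum, Finset.sum_eq_single a (fun b _ hb => coeff_single_of_ne hb.symm) (fun ha => by
        rw [coeff_single_same]
        exact Function.notMem_support.1 fun h => ha (hfin.mem_toFinset.2 h)), coeff_single_same]
    rw [hsum]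
    refine isNilpotent_sum fun n hn => ?_
    rw [Set.Finite.mem_toFinset, mem_support, coeff_sub] at hn
    have hn0 : n < 0 := by
      by_contra hh
      obtain ⟨m, rfl⟩ := Int.eq_ofNat_of_zero_le (not_lt.1 hh)
      rw [LaurentSeries.coeff_coe_powerSeries, PowerSeries.coeff_mk, sub_self] at hn
      exact hn rfl
    obtain ⟨k, hk⟩ := hnil n hn0
    refine ⟨k, ?_⟩
    rw [single_pow, coeff_sub, PowerSeries.coeff_coe, if_pos hn0, sub_zero, hk, single_eq_zero]
  have hQ : IsNilpotent (Q * (1 - Q)) := by
    have h1 : IsNilpotent (ofPowerSeries ℤ R (Q * (1 - Q))) := by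
      set q := ofPowerSeries ℤ R Q with hqd
      have hee : e * e = e := he
      rw [map_mul, map_sub, map_one, ← hqd,
        show q * (1 - q) = (e - q) * (e + q - 1) by linear_combination -hee]
      exact Commute.isNilpotent_mul_right (Commute.all _ _) hP
    obtain ⟨k, hk⟩ := h1
    exact ⟨k, (ofPowerSeries_injective (Γ := ℤ)) (by rw [map_pow, hk, map_zero])⟩
  have hu : IsUnit (1 - Q) := by
    rw [PowerSeries.isUnit_iff_constantCoeff, map_sub, map_one]
    refine IsLocalRing.isUnit_one_sub_self_of_mem_nonunits _ ((IsLocalRing.residue_eq_zero_iff _).1 ?_)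
    rw [← PowerSeries.coeff_zero_eq_constantCoeff_apply, PowerSeries.coeff_mk]
    exact hm _
  have hQn : IsNilpotent Q := by
    obtain ⟨k, hk⟩ := hQ
    exact ⟨k, (hu.pow k).mul_left_eq_zero.1 (by rwa [← mul_pow])⟩
  have : IsNilpotent e := by
    rw [show e = (e - ofPowerSeries ℤ R Q) + ofPowerSeries ℤ R Q by abel]
    exact Commute.isNilpotent_add (Commute.all _ _) hP (hQn.map _)
  exact he.eq_zero_of_isNilpotent this

end Groth.Agent.LaurentPts
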